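import Cfsg.Agent.H876.D3.Kern
import Cfsg.Agent.H905.MdM
import Cfsg.Agent.H915.LD

/-!
# `PSU(N, K)` in the defining characteristic: the kernel of the representation (helper151)

* **`setup`** : the input for the assembly of the low dimensions (helper876).
-/

set_option autoImplicit false
set_option linter.unusedSectionVars false
set_option linter.style.haveILetI false

namespace Cfsg.Agent.H151.D3

open CoxeterSystem Cfsg.Agent.ChevalleyStructure.CoxeterGeom Cfsg.Agent.Tits.Roots Cfsg.Agent.Nodes.TypeC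
open Cfsg.Agent.Nodes.Comb Cfsg.Agent.Nodes.Reps Cfsg.Agent.Nodes.WittRoot Cfsg.Agent.Nodes.BNOf
open Cfsg.Agent.Nodes.WittRGD Cfsg.Agent.Nodes.RGDLib Cfsg.Agent.Nodes.WittAll Cfsg.Agent.Nodes
open Cfsg.Agent.TitsThree Cfsg.Agent.TitsThree.Siegel Cfsg.Agent.TitsThree.WittFrame
  Cfsg.Agent.TitsThree.WittWeyl Cfsg.Agent.TitsThree.FrameCN Cfsg.Agent.H905.Md
  Cfsg.Agent.Nodes.StabComb Cfsg.Agent.Tits.Core
open Cfsg Cfsg.Geo Cfsg.Agent.H876.D3 Cfsg.Agent.H911 Cfsg.Agent.H915.LD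
open LieClassical.HermBasic Cfsg.Agent.TitsThree.KSideU Cfsg.Agent.TitsThree.KSideUDesc Cfsg.Agent.Nodes.WittU
  Cfsg.Agent.TitsThree.WBridge Cfsg.Agent.TitsThree.SiegelGen Cfsg.Agent.H61.SUCross Cfsg.Agent.H61.SUNode
open Cfsg.Agent.KFacts.MulOdd.Inst (Lv)
open Cfsg.Agent.Omega.CR Cfsg.Agent.Omega.FOne.Lift.Sd Cfsg.Agent.Nodes.Bruhat Cfsg.Agent.Nodes.OppDec
open scoped MatrixGroups

universe u

/-- an embedding of a finite field in an algebraically closed field of the same characteristic -/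
theorem exists_emb (p : ℕ) [Fact p.Prime] (K : Type) [Field K] [Finite K] [CharP K p] (k : Type*) [Field k]
    [IsAlgClosed k] [CharP k p] : Nonempty (K →+* k) := by
  letI : Algebra (ZMod p) K := ZMod.algebra K p
  letI : Algebra (ZMod p) k := ZMod.algebra k p
  haveI : Algebra.IsAlgebraic (ZMod p) K := Algebra.IsAlgebraic.of_finite _ _
  exact ⟨(IsAlgClosed.lift (R := ZMod p) (S := K) (M := k)).toRingHom⟩

theorem exists_kind' {K : Type} [Field K] [Fintype K] {N q : ℕ} (hK : Fintype.card K = q ^ 2) (hN : 4 ≤ N) :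
    ∃ (m : ℕ) (W : WFrame (PU hK N) m), 2 ≤ m ∧ Kind W ∧ (W.V0 = ⊥ → N = 2 * m) ∧
      (W.V0 ≠ ⊥ → N = 2 * m + 1) := by
  obtain ⟨m, hm⟩ : ∃ m, N = 2 * m ∨ N = 2 * m + 1 := ⟨N / 2, by omega⟩
  rcases hm with hm | hm
  · obtain ⟨W, hW⟩ := exists_wframe_even hK hm
    exact ⟨m, W, by omega, Or.inl hW, fun _ => hm, fun h => absurd hW h⟩
  · obtain ⟨W, d, hd, hW⟩ := exists_wframe_odd hK hm
    refine ⟨m, W, by omega, Or.inr ⟨d, hd, hW⟩, fun h => ?_, fun _ => hm⟩
    exfalso
    rw [h] at hW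
    have h1 : d ∈ Submodule.span K {d} := Submodule.mem_span_singleton_self d
    rw [← hW, Submodule.mem_bot] at h1
    rw [h1] at hd
    have h2 : hermForm N K q 0 0 = 0 := HForm.zero_left (HU hK N) _
    rw [h2] at hd
    exact zero_ne_one hd

variable {F : Type u} [Field F] [Finite F] {ι : Type} [Fintype ι] [DecidableEq ι] {P : Subgroup (GL ι F)}

/-- the traces are fixed by `x ↦ x ^ q` if the character is -/
theorem fr_of_coef (p : ℕ) [Fact p.Prime] [CharP F p] {K : Type} [Field K] [Fintype K] [CharP K p] {N q : ℕ}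
    (hN : 3 ≤ N) (hK : Fintype.card K = q ^ 2) (hP : ActsAbsolutelyIrreducibly (matrixSet P)) [Nonempty ι]
    {m : ℕ} (hm : 0 < m) {W : WFrame (PU hK N) m} (hW : Kind W) {φ : SU N K q →* GL ι F} (hφ : φ.range = P)
    {a : ℕ} {c : ι → AlgebraicClosure F} (hc0 : c ≠ 0)
    (hc : c ∈ fx (lin (acRep φ)) (RGD.Sup (WittModel.X (modelSU hK hN W))
        (RGD.Pos (CoxeterMatrix.B m).toCoxeterSystem (isCartan m)))) {χ : SU N K q → AlgebraicClosure F}
    (hχ : ∀ t ∈ WittModel.T (modelSU hK hN W), lin (acRep φ) t c = χ t • c)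
    (h : ∀ t ∈ WittModel.T (modelSU hK hN W), χ t ^ p ^ a = χ t) : Fr P (p ^ a) := by
  have hchar : CharP (AlgebraicClosure F) p := charP_of_injective_algebraMap (algebraMap F _).injective p
  obtain ⟨p0, hp0, -⟩ := exists_adm hK W
  have hA : AmbT (toFrame W) p (modelSU hK hN W).I := AmbT.of_amb (amb_U hK W) p
  haveI : Finite (CoxeterMatrix.B m).Group := finite_W (CoxeterMatrix.B m).toCoxeterSystem
  have R := rgdC_model (modelSU hK hN W) hA hp0 (CoxeterMatrix.B m).toCoxeterSystem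
  have hG : GG (CoxeterMatrix.B m).toCoxeterSystem (isCartan m) (WittModel.T (modelSU hK hN W))
      (WittModel.X (modelSU hK hN W)) = ⊤ := gg_top (WittModel.G1_eq_top _ hm _)
  have hT := modelT_comm (M := modelSU hK hN W) hA (kd_su hW)
  have hirr := ac_irr R hG hT hφ hP
  obtain ⟨s, hs⟩ := exists_frob F p a
  intro g hg
  rw [← hφ] at hg
  obtain ⟨y, rfl⟩ := hg
  have h1 := trace_fixed R (acRep φ) hirr hc hc0 hχ s (fun t ht => by rw [hs, h t ht]) (g := y)
    (by rw [hG]; trivial)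
  rw [hs, trace_acRep, ← map_pow] at h1
  exact (algebraMap F (AlgebraicClosure F)).injective h1

/-- the torus: if only the last exponent is not zero then the character has values in the field of order `q` -/
theorem cf_pow {K : Type} [Field K] [Fintype K] {p : ℕ} [Fact p.Prime] [CharP K p] {N q m : ℕ}
    (hN : 3 ≤ N) {hK : Fintype.card K = q ^ 2} {W : WFrame (PU hK N) m} (hm : 0 < m) (hV0 : W.V0 = ⊥)
    {k : Type*} [Field k] (j : K →+* k) {θ : Fin m → ℕ} (hθ : ∀ i : Fin m, (i : ℕ) + 1 < m → θ i = 0)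
    {t : SU N K q} (ht : t ∈ WittModel.T (modelSU hK hN W)) : cf W j θ t ^ q = cf W j θ t := by
  classical
  -- the last leading minor
  have hlast : ∀ t ∈ WittModel.T (modelSU hK hN W), ∀ i : Fin m, ¬ (i : ℕ) + 1 < m →
      dl W i t ^ q = dl W i t := by
    let S : Subgroup (SU N K q) :=
      { carrier := {t | t ∈ WittModel.T (modelSU hK hN W) ∧ ∀ i : Fin m, ¬ (i : ℕ) + 1 < m →
          dl W i t ^ q = dl W i t}
        one_mem' := ⟨one_mem _, fun i _ => by rw [dl_one, one_pow]⟩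
        mul_mem' := by
          rintro s t ⟨hs, es⟩ ⟨ht, et⟩
          exact ⟨mul_mem hs ht, fun i hi => by rw [dl_mul_T hN ht, mul_pow, es i hi, et i hi]⟩
        inv_mem' := by
          rintro t ⟨ht, et⟩
          refine ⟨inv_mem ht, fun i hi => ?_⟩
          have h1 : dl W i t * dl W i t⁻¹ = 1 := by
            rw [← dl_mul_T hN (inv_mem ht), mul_inv_cancel, dl_one]
          have h2 : dl W i t * dl W i t⁻¹ ^ q = 1 := by
            have h3 := congrArg (fun x => x ^ q) h1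
            simp only [mul_pow, one_pow] at h3
            rwa [et i hi] at h3
          exact mul_left_cancel₀ (dl_T_ne hN ht i) (h2.trans h1.symm) }
    obtain ⟨p0, hp0, -⟩ := exists_adm hK W
    have hA : AmbT (toFrame W) p (modelSU hK hN W).I := AmbT.of_amb (amb_U hK W) p
    have : Finite (CoxeterMatrix.B m).Group := finite_W (CoxeterMatrix.B m).toCoxeterSystem
    have R := rgdC_model (modelSU hK hN W) hA hp0 (CoxeterMatrix.B m).toCoxeterSystem
    have h2 := KFacts.MulOdd.Shrink.torus_le R (WittModel.G1_eq_top _ hm _)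
    have h3 : KFacts.MulOdd.Shrink.TT (WittModel.T (modelSU hK hN W)) (WittModel.X (modelSU hK hN W)) ≤ S := by
      refine iSup_le fun i => ?_
      intro t ht
      have ht' : t ∈ Tn hN W i := ht
      refine ⟨(Subgroup.mem_inf.1 ht').1, fun a ha => ?_⟩
      by_cases hai : a = i
      · subst hai
        exact dl_Tn_last hN hV0 ha ht'
      · rw [dl_Tn_ne hN hai ht', one_pow]
    exact fun t ht => (h3 (h2 ht)).2
  unfold cf
  rw [← Finset.prod_pow]
  refine Finset.prod_congr rfl fun i _ => ?_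
  by_cases hi : (i : ℕ) + 1 < m
  · rw [hθ i hi, pow_zero, one_pow]
  · rw [← pow_mul, mul_comm, pow_mul, ← map_pow, hlast t ht i hi]

/-- **The kernel of `P`.** -/
theorem setup (p : ℕ) [Fact p.Prime] [CharP F p] (K : Type) [Field K] [Fintype K] [CharP K p]
    {N q : ℕ} (hN : 4 ≤ N) (hK : Fintype.card K = q ^ 2) (hC : Core P) (Φ : Soc P ≃* PSU N K q) :
    ∃ (m : ℕ) (W : WFrame (PU hK N) m), 2 ≤ m ∧ Kind W ∧ (W.V0 = ⊥ → N = 2 * m) ∧
      (W.V0 ≠ ⊥ → N = 2 * m + 1) ∧ ∃ (k : Type u) (_ : Field k) (_ : IsAlgClosed k) (_ : CharP k p)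
      (j : K →+* k) (J : Set (Fin m)) (θ : Fin m → ℕ), Bd W J θ ∧ (∃ i, i ∉ J) ∧
      (∀ r, r ≤ m → 0 < r → (∀ i : Fin m, r ≤ (i : ℕ) → θ i = 0) →
        ∃ (vv : (Fin m → Fin N → K) → (ι → k)) (ff : (Fin m → Fin N → K) → Module.Dual k (ι → k)),
          IsKer q r j θ vv ff) ∧
      (W.V0 = ⊥ → (∀ i : Fin m, (i : ℕ) + 1 < m → θ i = 0) → SD P) := by
  classical
  have hN3 : 3 ≤ N := by omega
  haveI := hC.nonempty
  obtain ⟨m, W, hm, hW, hev, hodd⟩ := exists_kind' hK hN
  obtain ⟨φ, hφ, -, -⟩ := psu_cover p hC.perfect hN3 hK (by omega) Φ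
  haveI hchar : CharP (AlgebraicClosure F) p := charP_of_injective_algebraMap (algebraMap F _).injective p
  obtain ⟨j⟩ := exists_emb p K (AlgebraicClosure F)
  have hm0 : 0 < m := by omega
  obtain ⟨p0, hp0, -⟩ := exists_adm hK W
  have hA : AmbT (toFrame W) p (modelSU hK hN3 W).I := AmbT.of_amb (amb_U hK W) p
  haveI : Finite (CoxeterMatrix.B m).Group := finite_W (CoxeterMatrix.B m).toCoxeterSystem
  have R := rgdC_model (modelSU hK hN3 W) hA hp0 (CoxeterMatrix.B m).toCoxeterSystem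
  have hG : GG (CoxeterMatrix.B m).toCoxeterSystem (isCartan m) (WittModel.T (modelSU hK hN3 W))
      (WittModel.X (modelSU hK hN3 W)) = ⊤ := gg_top (WittModel.G1_eq_top _ hm0 _)
  have hT := modelT_comm (M := modelSU hK hN3 W) hA (kd_su hW)
  have hirr := ac_irr R hG hT hφ hC.absIrred
  have hirr' : ∀ L : Submodule (AlgebraicClosure F) (ι → AlgebraicClosure F), Ivt (lin (acRep φ)) ⊤ L →
      L = ⊥ ∨ L = ⊤ := by
    intro L hL
    exact hirr L (by rw [hG]; exact hL)
  obtain ⟨J, θ, hB, hJ, v, ψ, hv0, hv, hvT, hψ⟩ := exists_coef hN3 p hW hm0 j (lin (acRep φ)) hirr'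
  refine ⟨m, W, hm, hW, hev, hodd, AlgebraicClosure F, inferInstance, inferInstance, hchar, j, J, θ, hB, ?_, ?_, ?_⟩
  · apply hJ
    rw [Module.finrank_fintype_fun_eq_card]
    have := hC.two_le
    omega
  · intro r hr hr0 hθ
    exact isKer_of_coef hirr' hv0 hψ hr hr0 hθ
  · intro hV0 hθ
    obtain ⟨a, -, ha⟩ := FiniteField.card K p
    obtain ⟨b, hb⟩ : ∃ b, q = p ^ b := by
      have h1 : q ∣ p ^ (a : ℕ) := by rw [← ha, hK, sq]; exact Dvd.intro _ rfl
      obtain ⟨b, -, hb⟩ := (Nat.dvd_prime_pow (Fact.out : p.Prime)).1 h1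
      exact ⟨b, hb⟩
    have hfr : Fr P (p ^ b) := fr_of_coef p hN3 hK hC.absIrred hm0 hW hφ hv0 hv hvT (fun t ht => by
      rw [← hb]
      exact cf_pow (p := p) hN3 hm0 hV0 j hθ ht)
    have hcj : Cj P (p ^ b) := by
      intro g hg
      have h2 := (psu_both p hC.absIrred hC.perfect hN3 hK (by omega) Φ hg).2
      rw [← hb]
      exact h2.symm
    exact SD.of_fr_cj hfr hcj

end Cfsg.Agent.H151.D3
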